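import Cfsg.Agent.SB.Exc.CI.Main

/-!
# S3541, exceptional socles: a root which is non-trivial on two given elements of the torus; centralizer orders (helper92)
-/

set_option autoImplicit false
set_option linter.unusedSectionVars false
set_option maxHeartbeats 400000

namespace Cfsg.Agent.TH.Ex.Mx

open CoxeterSystem Cfsg Cfsg.Lie Cfsg.Lie.ChevalleyDatum
open Cfsg.Agent.ChevalleyStructure Cfsg.Agent.ChevalleyStructure.Elts Cfsg.Agent.ChevalleyStructure.CoxeterGeom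
  Cfsg.Agent.ChevalleyStructure.CoxeterGeomTypes
open Cfsg.Agent.Tits.Roots Cfsg.Agent.Tits.Core Cfsg.Agent.Nodes Cfsg.Agent.Nodes.Reps Cfsg.Agent.Nodes.BNOf
  Cfsg.Agent.Nodes.RGDChev Cfsg.Agent.Nodes.Bruhat
open Cfsg.Agent.KFacts.RgdField Cfsg.Agent.KFacts.RgdChevCoord
open Cfsg.Agent.BpExc Cfsg.Agent.BpExc.TorCent Cfsg.Agent.BpExc.TorChev Cfsg.Agent.BpExc.Tow
  Cfsg.Agent.BpExc.TowChev Cfsg.Agent.BpExc.Fr Cfsg.Agent.BpExc.LangFr
open Cfsg.Agent.H469.Exc Cfsg.Agent.H795.SetCent Cfsg.Agent.H129.TorusChar Cfsg.Agent.DS.Ex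
open Cfsg.Agent.DS.Nt

/-- the distance in the diagram of type `F₄` -/
def dF (i j : ℕ) : ℕ := (i - j) + (j - i)

/-- the position of a node of type `E` -/
def pE (i : ℕ) : ℕ := if i = 0 then 0 else if i = 1 then 2 else i - 1

/-- the distance in the diagrams of type `E` -/
def dE (i j : ℕ) : ℕ := if i = j then 0 else dF (pE i) (pE j) + (if i = 1 then 1 else 0) + (if j = 1 then 1 else 0)

/-- any two nodes are joined by a root supported on the path -/
def Path (D : ChevalleyDatum) (l : ℕ) (d : ℕ → ℕ → ℕ) : Prop :=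
  ∀ i j : Fin l, i ≠ j → d i i < d i j ∧ d j j < d i j ∧ ∃ s : Fin D.nroots, vec D l s i = 1 ∧ vec D l s j = 1 ∧
    ∀ k : Fin l, vec D l s k = 0 ∨ k = i ∨ k = j ∨ (d k j < d i j ∧ d i k < d i j)

theorem path_F4 : Path chevF4 4 dF := by unfold Path; decide +kernel
theorem path_E6 : Path chevE6 6 dE := by unfold Path; decide +kernel
theorem path_E7 : Path chevE7 7 dE := by unfold Path; decide +kernel
theorem path_E8 : Path chevE8 8 dE := by unfold Path; decide +kernel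

variable {D : ChevalleyDatum} {l : ℕ} {M : CoxeterMatrix (Fin l)} {hp : IsType D l M} {p : ℕ} [Fact p.Prime]

theorem exists_path (hp : IsType D l M) (hD : Typ D) : ∃ d, Path D l d := by
  have h := typ_l hp
  rcases hD with rfl | rfl | rfl | rfl
  · obtain rfl := h.1 rfl
    exact ⟨_, path_F4⟩
  · obtain rfl := h.2.1 rfl
    exact ⟨_, path_E6⟩
  · obtain rfl := h.2.2.1 rfl
    exact ⟨_, path_E7⟩
  · obtain rfl := h.2.2.2 rfl
    exact ⟨_, path_E8⟩

theorem mc_eq {k : Type*} [Field k] {φ : (Fin l → ℤ) → k} (hφ : IsMC φ) {x : Fin l → ℤ} {i : Fin l} (hi : x i = 1)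
    (h : ∀ j, j ≠ i → x j = 0 ∨ φ (sr j) = 1) : φ x = φ (sr i) := by
  rw [hφ.eq_prod x, Finset.prod_eq_single i, hi, zpow_one]
  · intro j _ hj
    rcases h j hj with h1 | h1
    · rw [h1, zpow_zero]
    · rw [h1, one_zpow]
  · intro h1
    exact absurd (Finset.mem_univ i) h1

/-- two non-trivial characters of the root lattice are non-trivial on a common root -/
theorem exists_root (hp : IsType D l M) (hD : Typ D) {k : Type*} [Field k] {φ ψ : (Fin l → ℤ) → k} (hφ : IsMC φ)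
    (hψ : IsMC ψ) {i j : Fin l} (hi : φ (sr i) ≠ 1) (hj : ψ (sr j) ≠ 1) :
    ∃ s : Fin D.nroots, φ (vec D l s) ≠ 1 ∧ ψ (vec D l s) ≠ 1 := by
  obtain ⟨d, hd⟩ := exists_path hp hD
  obtain ⟨n, hn⟩ : ∃ n, d i j = n := ⟨_, rfl⟩
  induction n using Nat.strong_induction_on generalizing i j with
  | _ n ih =>
    by_cases hij : i = j
    · subst hij
      obtain ⟨s, hs, e⟩ := (isRoot_iff hp M.toCoxeterSystem (sr i)).1 (isRoot_sr _ _ i)
      refine ⟨⟨s, hs⟩, ?_⟩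
      show φ (vec D l s) ≠ 1 ∧ ψ (vec D l s) ≠ 1
      rw [e]
      exact ⟨hi, hj⟩
    obtain ⟨h1, h2, s, s1, s2, s3⟩ := hd i j hij
    by_cases a1 : ψ (sr i) = 1
    swap
    · exact ih _ (hn ▸ h1) hi a1 rfl
    by_cases a2 : φ (sr j) = 1
    swap
    · exact ih _ (hn ▸ h2) a2 hj rfl
    by_cases a3 : ∀ k : Fin l, d k j < d i j → φ (sr k) = 1
    swap
    · push Not at a3
      obtain ⟨k, b1, b2⟩ := a3
      exact ih _ (hn ▸ b1) b2 hj rfl
    by_cases a4 : ∀ k : Fin l, d i k < d i j → ψ (sr k) = 1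
    swap
    · push Not at a4
      obtain ⟨k, b1, b2⟩ := a4
      exact ih _ (hn ▸ b1) hi b2 rfl
    refine ⟨s, ?_, ?_⟩
    · rw [mc_eq hφ s1 fun k hk => ?_]
      · exact hi
      · rcases s3 k with b | b | b | b
        · exact Or.inl b
        · exact absurd b hk
        · exact Or.inr (b ▸ a2)
        · exact Or.inr (a3 k b.1)
    · rw [mc_eq hψ s2 fun k hk => ?_]
      · exact hj
      · rcases s3 k with b | b | b | b
        · exact Or.inl b
        · exact Or.inr (b ▸ a1)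
        · exact absurd b hk
        · exact Or.inr (a4 k b.2)

theorem exists_sr {t : YY D p} (ht : t ∈ TT D (KK p)) (h1 : t ≠ 1) : ∃ i, cX hp t (sr i) ≠ 1 := by
  by_contra h
  push Not at h
  exact h1 (cX_inj hp ht (one_mem _) fun i => by rw [h, cX_one])

/-- **[MIX] in the torus** -/
theorem mix_T (hD : Typ D) {y z : YY D p} (hy : y ∈ TT D (KK p)) (hz : z ∈ TT D (KK p)) (y1 : y ≠ 1) (z1 : z ≠ 1) :
    ∃ s : Fin D.nroots, cX hp y (vec D l s) ≠ 1 ∧ cX hp z (vec D l s) ≠ 1 := by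
  obtain ⟨i, hi⟩ := exists_sr (hp := hp) hy y1
  obtain ⟨j, hj⟩ := exists_sr (hp := hp) hz z1
  exact exists_root hp hD (isMC_cX hp hy) (isMC_cX hp hz) hi hj

/-- commuting elements of coprime orders prime to `p` are toral -/
theorem tp_of_coprime (hp : IsType D l M) {y z : YY D p} {r s : ℕ} (hr : r ≠ 0) (hs : s ≠ 0) (hrs : r.Coprime s)
    (hrp : r.Coprime p) (hsp : s.Coprime p) (hy : y ^ r = 1) (hz : z ^ s = 1) (hc : Commute y z) : Tp p y z := by
  have h1 : (y * z) ^ (r * s) = 1 := by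
    rw [hc.mul_pow, pow_mul, hy, one_pow, one_mul, mul_comm, pow_mul, hz, one_pow]
  obtain ⟨g, hg⟩ := H944.TorAnyChev.exists_conj_mem_TT hp p (TorAll.hAlg_of_isAlgebraic p _) (mul_ne_zero hr hs)
    (Nat.Coprime.mul_left hrp hsp) h1
  refine ⟨g, mem_of_pow_coprime (a := r) (b := s) ?_ ?_ hrs, mem_of_pow_coprime (a := r) (b := s) ?_ ?_ hrs⟩
  · rw [conj_pow, hy, mul_one, mul_inv_cancel]
    exact one_mem _
  · have h2 := pow_mem hg s
    rwa [conj_pow, hc.mul_pow, hz, mul_one, ← conj_pow] at h2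
  · have h2 := pow_mem hg r
    rwa [conj_pow, hc.mul_pow, hy, one_mul, ← conj_pow] at h2
  · rw [conj_pow, hz, mul_one, mul_inv_cancel]
    exact one_mem _

theorem ad_single {t : YY D p} (ht : t ∈ TT D (KK p)) (j : D.Idx) :
    ad D p t (Pi.single j 1) = wtc hp t j • (Pi.single j 1 : D.Idx → KK p) := by
  funext i
  rw [ad_tor (hp := hp) ht, Pi.smul_apply, smul_eq_mul]
  by_cases h : i = j
  · rw [h]
  · rw [Pi.single_eq_of_ne h, mul_zero, mul_zero]

theorem ad_of_conj {g y : YY D p} {v : D.Idx → KK p} {a : KK p} (h : ad D p (g * y * g⁻¹) v = a • v) :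
    ad D p y (ad D p g⁻¹ v) = a • ad D p g⁻¹ v := by
  rw [← map_smul, ← h, ← ad_mul, ← ad_mul]
  congr 2
  group

theorem ad_ne_zero (g : YY D p) {v : D.Idx → KK p} (hv : v ≠ 0) : ad D p g v ≠ 0 := fun h =>
  hv ((adE g).injective (h.trans (map_zero _).symm))

/-- **[MIX]** common eigenvectors with eigenvalues `(a, b)` and `(a⁻¹, b⁻¹)`, `a, b ≠ 1` -/
theorem mix (hp : IsType D l M) (hD : Typ D) {y z : YY D p} (h : Tp p y z) (y1 : y ≠ 1) (z1 : z ≠ 1) :
    ∃ (a b : KK p) (v w : D.Idx → KK p), a ≠ 1 ∧ b ≠ 1 ∧ v ≠ 0 ∧ w ≠ 0 ∧ ad D p y v = a • v ∧ ad D p z v = b • v ∧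
      ad D p y w = a⁻¹ • w ∧ ad D p z w = b⁻¹ • w := by
  obtain ⟨g, hy, hz⟩ := h
  obtain ⟨s, h1, h2⟩ := mix_T (hp := hp) hD hy hz (fun e => y1 (conj_eq_one_iff.1 e)) (fun e => z1 (conj_eq_one_iff.1 e))
  obtain ⟨s', hs', e⟩ := (isRoot_iff hp M.toCoxeterSystem _).1 (isRoot_vec hp M.toCoxeterSystem s.2).neg
  have n0 : ∀ j : D.Idx, (Pi.single j 1 : D.Idx → KK p) ≠ 0 := fun j e => by
    have := congrFun e j
    rw [Pi.single_eq_same] at this
    exact one_ne_zero this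
  refine ⟨_, _, ad D p g⁻¹ (Pi.single (Sum.inr s) 1), ad D p g⁻¹ (Pi.single (Sum.inr ⟨s', hs'⟩) 1), h1, h2,
    ad_ne_zero _ (n0 _), ad_ne_zero _ (n0 _), ad_of_conj (ad_single hy _), ad_of_conj (ad_single hz _),
    ad_of_conj ?_, ad_of_conj ?_⟩
  · rw [ad_single (hp := hp) hy, ← (isMC_cX hp hy).neg, ← e]
    rfl
  · rw [ad_single (hp := hp) hz, ← (isMC_cX hp hz).neg, ← e]
    rfl

/-- **[CE]** the order of the centralizer in terms of the fixed space -/
theorem card_cen_le {e : ℕ} {σ : MulAut (YY D p)} {g : (Fin l → ℤ) ≃+ (Fin l → ℤ)} (he : 0 < e) (hσ : IsFrob p e σ)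
    (Φ : Fr M.toCoxeterSystem hp.isCartan (TT D (KK p)) (XX D l (KK p)) σ g) {y : YY D p} (hy : σ y = y)
    (h1 : (orderOf y).Prime) (h2 : orderOf y ≠ p) {n : ℕ} (hn : dd p y ≤ l + n) :
    Nat.card ↥(DL.fix σ ⊓ Subgroup.centralizer {y}) ≤ H931.KC.nmk D l * ((p ^ e) ^ n * (p ^ e + 1) ^ l) := by
  obtain ⟨x, σ', w, ζ, c, c0, S, h⟩ := SB.Exc.CI.exists_sit (hp := hp) he hσ Φ hy h1 h2
  rw [h]
  exact S.card_le (by rwa [dd_conj])

end Cfsg.Agent.TH.Ex.Mx
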