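import Cfsg.Agent.TH.Ex.Mx.A
import Cfsg.Agent.TH.Ex.Mu.Defs

/-!
# S3541, several simple factors in `F₄, E₆, ²E₆, E₇, E₈`: `boxGeo : BoxGeo` (helper92)
-/

set_option autoImplicit false
set_option linter.unusedSectionVars false
set_option maxHeartbeats 400000

namespace Cfsg.Agent.TH.Ex.Mx

open CoxeterSystem Cfsg Cfsg.Lie Cfsg.Lie.ChevalleyDatum
open Cfsg.Agent.ChevalleyStructure Cfsg.Agent.ChevalleyStructure.Elts Cfsg.Agent.ChevalleyStructure.CoxeterGeom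
  Cfsg.Agent.ChevalleyStructure.CoxeterGeomTypes
open Cfsg.Agent.Tits.Roots Cfsg.Agent.Tits.Core Cfsg.Agent.Nodes Cfsg.Agent.Nodes.Reps Cfsg.Agent.Nodes.BNOf
  Cfsg.Agent.Nodes.RGDChev Cfsg.Agent.Nodes.Bruhat
open Cfsg.Agent.KFacts.RgdField Cfsg.Agent.KFacts.RgdChevCoord
open Cfsg.Agent.BpExc Cfsg.Agent.BpExc.TorCent Cfsg.Agent.BpExc.TorChev Cfsg.Agent.BpExc.Tow
  Cfsg.Agent.BpExc.TowChev Cfsg.Agent.BpExc.Fr Cfsg.Agent.BpExc.LangFr
open Cfsg.Agent.H469.Exc Cfsg.Agent.H795.SetCent Cfsg.Agent.H129.TorusChar Cfsg.Agent.DS.Ex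
open Cfsg.Agent.DS.Nt Cfsg.Agent.H316.U6 Cfsg.Agent.H902
open Subgroup (centralizer)

variable {D : ChevalleyDatum} {l : ℕ} {M : CoxeterMatrix (Fin l)} {hp : IsType D l M} {p : ℕ} [Fact p.Prime]

open scoped Classical in
/-- the roots with the value `c` -/
noncomputable def fib (hp : IsType D l M) (t : YY D p) (c : KK p) : Finset (Fin D.nroots) :=
  Finset.univ.filter fun s => cX hp t (vec D l s) = c

theorem mem_fib {t : YY D p} {c : KK p} {s : Fin D.nroots} : s ∈ fib hp t c ↔ cX hp t (vec D l s) = c := by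
  classical
  unfold fib
  rw [Finset.mem_filter]
  exact and_iff_right (Finset.mem_univ s)

theorem ev_fib {t : YY D p} (ht : t ∈ TT D (KK p)) {c : KK p} (hc : c ≠ 1) :
    DS.NT.ev (ad D p) t c = (fib hp t c).card := by
  classical
  rw [ev_tor (hp := hp) ht, if_neg hc, zero_add]
  rfl

theorem dd_fib {t : YY D p} (ht : t ∈ TT D (KK p)) : dd p t = l + (fib hp t 1).card := by
  classical
  rw [dd_tor hp ht]
  rfl

theorem fib_le {t : YY D p} {c c' : KK p} (g : (Fin l → ℤ) → (Fin l → ℤ)) (hg : Function.Injective g)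
    (h1 : ∀ a, IsRoot M.toCoxeterSystem hp.isCartan a → IsRoot M.toCoxeterSystem hp.isCartan (g a))
    (h2 : ∀ a, cX hp t a = c → cX hp t (g a) = c') : (fib hp t c).card ≤ (fib hp t c').card := by
  have hex : ∀ s : Fin D.nroots, ∃ s' : Fin D.nroots, vec D l s' = g (vec D l s) := fun s => by
    obtain ⟨s', hs', e⟩ := (isRoot_iff hp M.toCoxeterSystem _).1 (h1 _ (isRoot_vec hp M.toCoxeterSystem s.2))
    exact ⟨⟨s', hs'⟩, e⟩
  choose f hf using hex
  refine Finset.card_le_card_of_injOn f (fun s hs => ?_) fun s _ s' _ e => ?_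
  · rw [Finset.mem_coe, mem_fib] at hs ⊢
    rw [hf]
    exact h2 _ hs
  · exact Fin.ext (vec_inj hp s.2 s'.2 (hg (by rw [← hf, ← hf, e])))

theorem fib_inv {t : YY D p} (ht : t ∈ TT D (KK p)) (c : KK p) : (fib hp t c).card ≤ (fib hp t c⁻¹).card :=
  fib_le Neg.neg neg_injective (fun _ h => h.neg) fun a h => by rw [(isMC_cX hp ht).neg, h]

section frob

variable {e : ℕ} {σ : MulAut (YY D p)} {g : (Fin l → ℤ) ≃+ (Fin l → ℤ)} (hσ : IsFrob p e σ)
  (Φ : Fr M.toCoxeterSystem hp.isCartan (TT D (KK p)) (XX D l (KK p)) σ g) {t : YY D p} (ht : t ∈ TT D (KK p))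
  (hf : σ t = t)
include hσ Φ ht hf

theorem fib_frob (c : KK p) (i : ℕ) : (fib hp t c).card ≤ (fib hp t (c ^ (p ^ e) ^ i)).card := by
  induction i with
  | zero => rw [pow_zero, pow_one]
  | succ i ih =>
    refine ih.trans (fib_le g g.injective (fun a h => (Φ.root a).2 h) fun a h => ?_)
    have h1 := cX_sigma hp M.toCoxeterSystem hσ Φ ht a
    rw [hf, h] at h1
    rw [h1, ← pow_mul, ← pow_succ]

/-- the count of the roots -/
theorem orb_le {r : ℕ} (hr : r.Prime) (hrp : r ≠ p) (h1 : t ^ r = 1) {a : KK p} (ha : a ≠ 1) {R : ℕ} (h0 : 0 < R)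
    (hR : R ≤ (fib hp t a).card) : Mu.orb (p ^ e) r * R + (fib hp t 1).card ≤ D.nroots := by
  classical
  obtain ⟨s0, hs0⟩ := Finset.card_pos.1 (h0.trans_le hR)
  have a1 : a ^ r = 1 := by rw [← mem_fib.1 hs0, ← cX_pow hp ht, h1, cX_one]
  have := Fact.mk hr
  have a2 : orderOf a = r := orderOf_eq_prime a1 ha
  have a3 : IsPrimitiveRoot a r := a2 ▸ IsPrimitiveRoot.orderOf a
  unfold Mu.orb
  set J := (List.range r).filter fun j => (List.range r).any fun i => j == (p ^ e) ^ i % r || j + (p ^ e) ^ i % r == r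
    with hJ
  have n1 : J.Nodup := List.nodup_range.filter _
  have n2 : ∀ j ∈ J.toFinset, 0 < j ∧ j < r ∧ R ≤ (fib hp t (a ^ j)).card := by
    intro j hj
    rw [List.mem_toFinset, hJ, List.mem_filter, List.mem_range, List.any_eq_true] at hj
    obtain ⟨b1, i, -, b2⟩ := hj
    have b3 : a ^ ((p ^ e) ^ i % r) = a ^ (p ^ e) ^ i := by rw [← a2, pow_mod_orderOf]
    have b4 := hR.trans (fib_frob hσ Φ ht hf a i)
    have b5 : (p ^ e) ^ i % r < r := Nat.mod_lt _ hr.pos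
    rw [Bool.or_eq_true, beq_iff_eq, beq_iff_eq] at b2
    rcases b2 with b2 | b2
    · refine ⟨Nat.pos_of_ne_zero fun b6 => hrp ?_, b1, by rwa [b2, b3]⟩
      have b7 : r ∣ (p ^ e) ^ i := Nat.dvd_of_mod_eq_zero (b2 ▸ b6)
      exact (Nat.prime_dvd_prime_iff_eq hr Fact.out).1 (hr.dvd_of_dvd_pow (hr.dvd_of_dvd_pow b7))
    · refine ⟨by omega, b1, ?_⟩
      have b6 : a ^ j = (a ^ (p ^ e) ^ i)⁻¹ := eq_inv_of_mul_eq_one_left (by rw [← b3, ← pow_add, b2, a1])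
      rw [b6]
      exact b4.trans (fib_inv ht _)
  have n3 : ((insert 0 J.toFinset : Finset ℕ) : Set ℕ).PairwiseDisjoint fun j => fib hp t (a ^ j) := by
    have n4 : ∀ j ∈ ((insert 0 J.toFinset : Finset ℕ) : Set ℕ), j < r := fun j hj => by
      rcases Finset.mem_insert.1 (Finset.mem_coe.1 hj) with b | b
      · exact b ▸ hr.pos
      · exact (n2 j b).2.1
    intro i hi j hj hij
    refine Finset.disjoint_left.2 fun s b1 b2 => hij ?_
    exact a3.pow_inj (n4 i hi) (n4 j hj) ((mem_fib.1 b1).symm.trans (mem_fib.1 b2))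
  have n5 := Finset.card_le_univ ((insert 0 J.toFinset : Finset ℕ).biUnion fun j => fib hp t (a ^ j))
  rw [Finset.card_biUnion n3, Finset.sum_insert fun h => lt_irrefl 0 (n2 0 h).1, pow_zero, Fintype.card_fin] at n5
  have n6 := Finset.card_nsmul_le_sum J.toFinset (fun j => (fib hp t (a ^ j)).card) R fun j hj => (n2 j hj).2.2
  rw [List.toFinset_card_of_nodup n1, smul_eq_mul] at n6
  omega

end frob

/-- **[CE]** -/
theorem ce {e : ℕ} {σ : MulAut (YY D p)} {g : (Fin l → ℤ) ≃+ (Fin l → ℤ)} (he : 0 < e) (hσ : IsFrob p e σ)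
    (Φ : Fr M.toCoxeterSystem hp.isCartan (TT D (KK p)) (XX D l (KK p)) σ g) {y : YY D p} (hy : σ y = y)
    (h1 : (orderOf y).Prime) (h2 : orderOf y ≠ p) {a : KK p} (ha : a ≠ 1) {R : ℕ} (h0 : 0 < R)
    (hR : R ≤ DS.NT.ev (ad D p) y a) : Mu.orb (p ^ e) (orderOf y) * R ≤ D.nroots ∧
      Nat.card ↥(DL.fix σ ⊓ centralizer {y}) ≤
        H931.KC.nmk D l * ((p ^ e) ^ (D.nroots - Mu.orb (p ^ e) (orderOf y) * R) * (p ^ e + 1) ^ l) := by
  obtain ⟨x, σ', w, ζ, c, c0, S, -⟩ := SB.Exc.CI.exists_sit (hp := hp) he hσ Φ hy h1 h2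
  rw [← ev_conj x, ev_fib (hp := hp) S.mem ha] at hR
  have h3 := orb_le S.frob S.fr S.mem S.fix h1 h2 S.pow ha h0 hR
  refine ⟨by omega, card_cen_le (hp := hp) he hσ Φ hy h1 h2 ?_⟩
  rw [← dd_conj x, dd_fib (hp := hp) S.mem]
  omega

theorem f18 {M : CoxeterMatrix (Fin 4)} {hp : IsType chevF4 4 M} {e : ℕ} {σ : MulAut (YY chevF4 p)}
    {g : (Fin 4 → ℤ) ≃+ (Fin 4 → ℤ)} (he : 0 < e) (hσ : IsFrob p e σ)
    (Φ : Fr M.toCoxeterSystem hp.isCartan (TT chevF4 (KK p)) (XX chevF4 4 (KK p)) σ g) {y : YY chevF4 p} (hy : σ y = y)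
    (h1 : (orderOf y).Prime) (h2 : orderOf y ≠ p) (h3 : orderOf y ≠ 2) :
    Nat.card ↥(DL.fix σ ⊓ centralizer {y}) ≤ (p ^ e) ^ 18 * (p ^ e + 1) ^ 4 := by
  obtain ⟨x, σ', w, ζ, c, c0, S, h⟩ := SB.Exc.CI.exists_sit (hp := hp) he hσ Φ hy h1 h2
  have h5 := S.card_le' ((SB.Exc.CI.nK_F4 hp S.prime S.kac S.nt).2 h3)
  rwa [H931.KC.nmk_F4, one_mul, ← h] at h5

theorem ad_inj : Function.Injective (ad D p) := fun _ _ h =>
  Subtype.ext (Units.ext (Matrix.toLin'.injective h))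

/-- the representation of the finite group -/
theorem geo (hD : Typ D) {q : ℕ} {K : Type} [Group K] (m : MData hp p q K) {Y : Art.Sh} (e1 : Mu.NR Y = D.nroots)
    (e2 : Mu.rk Y = l) (e3 : Mu.nmk Y = H931.KC.nmk D l) (e4 : Si.dim Y = D.rank + D.nroots)
    (h18 : Y = .F4 → ∀ y : K, (orderOf y).Prime → orderOf y ≠ p → orderOf y ≠ 2 →
      Nat.card ↥(DL.fix m.σ ⊓ centralizer {m.ι y}) ≤ q ^ 18 * (q + 1) ^ 4) : Mu.HasGeo Y p q K := by
  have o : ∀ x : K, orderOf (m.ι x) = orderOf x := orderOf_injective _ m.inj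
  have : Finite (DL.fix m.σ) := m.fin
  have n1 : ∀ x : K, (orderOf x).Prime → m.ι x ≠ 1 := fun x hx h => by
    rw [← o, h, orderOf_one] at hx
    exact Nat.not_prime_one hx
  refine ⟨KK p, D.Idx → KK p, inferInstance, inferInstance, inferInstance, inferInstance, inferInstance,
    (ad D p).comp m.ι, ?_, ad_inj.comp m.inj, fun y z hc y1 z1 y2 z2 h => ?_, fun y y1 y2 a R ha h0 hR => ?_,
    fun hY y y1 y2 y3 => (Si.card_cent_le m.inj (DL.fix m.σ) m.fix y).trans (h18 hY y y1 y2 y3)⟩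
  · rw [Module.finrank_fintype_fun_eq_card, e4, Fintype.card_sum, Fintype.card_fin, Fintype.card_fin]
  · have h1 : Tp p (m.ι y) (m.ι z) := tp_of_coprime hp y1.ne_zero z1.ne_zero ((Nat.coprime_primes y1 z1).2 h)
      ((Nat.coprime_primes y1 Fact.out).2 y2) ((Nat.coprime_primes z1 Fact.out).2 z2)
      (by rw [← o, pow_orderOf_eq_one]) (by rw [← o, pow_orderOf_eq_one]) (Commute.map hc m.ι)
    obtain ⟨a, b, v, -, a1, b1, v0, -, h2, h3, -⟩ := mix hp hD h1 (n1 y y1) (n1 z z1)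
    exact ⟨v, a, b, v0, a1, b1, h2, h3⟩
  · have h1 := ce (hp := hp) m.he m.frob m.fr (m.fix y) (o y ▸ y1) (o y ▸ y2) ha h0 hR
    rw [m.hq, o] at h1
    rw [e1, e2, e3]
    exact ⟨h1.1, (Si.card_cent_le m.inj (DL.fix m.σ) m.fix y).trans h1.2⟩

/-- **[GEO]** -/
theorem boxGeo : Mu.BoxGeo where
  f4 F _ _ p _ _ := by
    obtain ⟨m, -⟩ := mdata_untw (r := p) hpF4 (Si.ne_of_rank (by decide)) (Si.ne_of_rank (by decide)) F
    refine geo (Or.inl rfl) m rfl rfl H931.KC.nmk_F4.symm rfl fun _ y y1 y2 y3 => ?_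
    have o : orderOf (m.ι y) = orderOf y := orderOf_injective _ m.inj y
    have h1 := f18 (hp := hpF4) m.he m.frob m.fr (m.fix y) (o ▸ y1) (o ▸ y2) (o ▸ y3)
    rwa [m.hq] at h1
  e6 F _ _ p _ _ := by
    obtain ⟨m, -⟩ := mdata_untw (r := p) hpE6 (Si.ne_of_rank (by decide)) (Si.ne_of_rank (by decide)) F
    exact geo (Or.inr (Or.inl rfl)) m rfl rfl H931.KC.nmk_E6.symm rfl fun h => absurd h (by decide)
  e7 F _ _ p _ _ := by
    obtain ⟨m, -⟩ := mdata_untw (r := p) hpE7 (Si.ne_of_rank (by decide)) (Si.ne_of_rank (by decide)) F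
    exact geo (Or.inr (Or.inr (Or.inl rfl))) m rfl rfl H931.KC.nmk_E7.symm rfl fun h => absurd h (by decide)
  e8 F _ _ p _ _ := by
    obtain ⟨m, -⟩ := mdata_untw (r := p) hpE8 (Si.ne_of_rank (by decide)) (Si.ne_of_rank (by decide)) F
    exact geo (Or.inr (Or.inr (Or.inr rfl))) m rfl rfl H931.KC.nmk_E8.symm rfl fun h => absurd h (by decide)
  te6 F _ _ p _ _ q hq hF := by
    obtain ⟨m⟩ := mdata_twE6 (r := p) hq hF
    exact geo (Or.inr (Or.inl rfl)) m rfl rfl H931.KC.nmk_E6.symm rfl fun h => absurd h (by decide)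

end Cfsg.Agent.TH.Ex.Mx
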